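import Groth.Prelude.Def_Cyc
import Groth.Agent.FibConstr.FibreMap
import Groth.Agent.GeomUnib.Equidim

/-!
# Relative dimension through fibre dimensions
-/

set_option autoImplicit false
universe u
open CategoryTheory AlgebraicGeometry

namespace Groth.Agent.RelDimBC

theorem hasRelDim_iff {X Y : Scheme.{u}} (f : X ⟶ Y) [LocallyOfFiniteType f] (d : ℕ) :
    Cyc.HasRelDim f d ↔ ∀ x : X, FlatMor.fibreDimAt f x = (d : WithBot ℕ∞) := by
  refine ⟨fun h x => FibreDim.fibreDimAt_eq_of_components f _ x (h _), fun h y T hT => ?_⟩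
  obtain ⟨m, hm⟩ := QuasiSober.sober hT.1 (isClosed_of_mem_irreducibleComponents T hT)
  have hy : f.base (f.fiberι y m) = y := by
    have : f.fiberι y m ∈ Set.range (f.fiberι y) := ⟨m, rfl⟩
    rwa [f.range_fiberι y] at this
  have hmax : ∀ x' : X, f.base x' = f.base (f.fiberι y m) → f.fiberι y m ∈ closure {x'} → x' = f.fiberι y m := by
    intro x' hx' hcl
    obtain ⟨a, rfl⟩ : x' ∈ Set.range (f.fiberι y) := by
      rw [f.range_fiberι y]
      exact hx'.trans hy
    have ha : a ⤳ m := (f.fiberι y).isEmbedding.isInducing.specializes_iff.1 (specializes_iff_mem_closure.2 hcl)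
    have hsub : T ⊆ closure {a} := by
      rw [← hm.def]
      exact closure_minimal (Set.singleton_subset_iff.2 (specializes_iff_mem_closure.1 ha)) isClosed_closure
    have heq : IsGenericPoint a T := le_antisymm (hT.2 isIrreducible_singleton.closure hsub) hsub
    rw [heq.eq hm]
  rw [← hm.def, FibreDim.dim_closure_fibre f y m, ← FibreDim.fibreDimAt_of_maximal f _ hmax]
  exact h _

end Groth.Agent.RelDimBC
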